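import Groth.Agent.Localalg.Matlis5

/-!
# Matlis duality: socle criterion, quotients, coextension of scalars
-/

set_option autoImplicit false
universe u v w

namespace K172.Matlis

open _root_.InjHull IsLocalRing

section Criterion

variable {B : Type u} [CommRing B]

/-- Criterion for hulls of `B/n` (`n` maximal): injective, `n`-power torsion, with cyclic nonzero
socle. -/
theorem exists_hull_of_socle (n : Ideal B) [hn : n.IsMaximal] {J : Type u} [AddCommGroup J]
    [Module B J] (hinj : Module.Injective B J) (htor : LocCoh.IsPowerTorsion n J) (x : J)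
    (hx : x ≠ 0) (hnx : ∀ a ∈ n, a • x = 0)
    (hsoc : ∀ y : J, (∀ a ∈ n, a • y = 0) → ∃ b : B, y = b • x) :
    ∃ g : (B ⧸ n) →ₗ[B] J, IsInjectiveHull g ∧ g 1 = x := by
  let g : (B ⧸ n) →ₗ[B] J := n.liftQ (LinearMap.toSpanSingleton B J x) (fun a ha => by
    simpa using hnx a ha)
  have hg : ∀ b : B, g (Ideal.Quotient.mk n b) = b • x := fun b => rfl
  have hg1 : g 1 = x := by
    have := hg 1
    rwa [map_one, one_smul] at this
  have hginj : Function.Injective g := by
    rw [injective_iff_map_eq_zero]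
    intro z hz
    obtain ⟨b, rfl⟩ := Ideal.Quotient.mk_surjective z
    rw [hg] at hz
    rw [Ideal.Quotient.eq_zero_iff_mem]
    by_contra hb
    obtain ⟨c, hc⟩ := hn.exists_inv hb
    obtain ⟨m, hm, hcm⟩ := hc
    apply hx
    have h1 : (1 : B) • x = 0 := by
      rw [← hcm, add_smul, mul_smul, hz, smul_zero, zero_add, hnx m hm]
    rwa [one_smul] at h1
  refine ⟨g, ⟨⟨hginj, ?_⟩, hinj⟩, hg1⟩
  intro N hN
  obtain ⟨y, hyN, hy0⟩ := Submodule.exists_mem_ne_zero_of_ne_bot hN
  obtain ⟨r, hr0, hr⟩ := Groth.Agent.Localalg.Matlis.exists_smul_mem_socle htor hy0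
  obtain ⟨b, hb⟩ := hsoc _ hr
  intro h
  apply hr0
  have : r • y ∈ N ⊓ LinearMap.range g :=
    ⟨N.smul_mem r hyN, ⟨Ideal.Quotient.mk n b, by rw [hg, hb]⟩⟩
  rw [h] at this
  exact this

end Criterion

section Local

variable {A : Type u} [CommRing A] [IsLocalRing A] {E : Type u} [AddCommGroup E] [Module A E]
  {f : ResidueField A →ₗ[A] E}

theorem apply_one_ne_zero (hf : IsEssentialInj f) : f 1 ≠ 0 := by
  intro h
  exact one_ne_zero (hf.injective (by rw [h, map_zero]) : (1 : ResidueField A) = 0)

theorem smul_apply_one {a : A} (ha : a ∈ maximalIdeal A) : a • f 1 = 0 := by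
  rw [← map_smul, Groth.Agent.Localalg.Matlis.smul_residueField_eq_zero ha, map_zero]

theorem exists_smul_of_socle (hf : IsEssentialInj f) {y : E}
    (hy : ∀ a ∈ maximalIdeal A, a • y = 0) : ∃ b : A, y = b • f 1 := by
  obtain ⟨z, rfl⟩ := Groth.Agent.Localalg.Matlis.mem_range_of_smul_eq_zero hf hy
  obtain ⟨b, rfl⟩ := residue_surjective z
  refine ⟨b, ?_⟩
  rw [← map_smul]
  congr 1
  rw [Algebra.smul_def, mul_one]
  rfl

/-- S5155 -/
theorem exists_hull_iff [IsNoetherianRing A] (E : Type u) [AddCommGroup E] [Module A E] :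
    (∃ f : ResidueField A →ₗ[A] E, IsInjectiveHull f) ↔
      (Module.Injective A E ∧ LocCoh.IsPowerTorsion (maximalIdeal A) E ∧
        IsSimpleModule A (ResidueField A →ₗ[A] E)) := by
  constructor
  · rintro ⟨f, hf⟩
    refine ⟨hf.isInjective, Groth.Agent.Localalg.Matlis.isPowerTorsion_hull hf, ?_⟩
    have h1 : IsSimpleModule A (ResidueField A) :=
      isSimpleModule_iff_quot_maximal.mpr ⟨maximalIdeal A, inferInstance, ⟨LinearEquiv.refl _ _⟩⟩
    exact IsSimpleModule.congr
      (Groth.Agent.Localalg.Matlis.homResidueFieldEquiv hf.toIsEssentialInj)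
  · rintro ⟨h1, h2, h3⟩
    obtain ⟨f, hf⟩ := @exists_ne _ (IsSimpleModule.nontrivial A (ResidueField A →ₗ[A] E)) 0
    have hf1 : f 1 ≠ 0 := by
      intro h
      apply hf
      ext z
      obtain ⟨r, rfl⟩ := residue_surjective z
      have h2 : residue A r = r • (1 : ResidueField A) := by
        rw [Algebra.smul_def, mul_one]; rfl
      rw [h2, map_smul, h, smul_zero, LinearMap.zero_apply]
    obtain ⟨g, hg, -⟩ := exists_hull_of_socle (maximalIdeal A) h1 h2 (f 1) hf1
      (fun a ha => smul_apply_one ha) (by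
        intro y hy
        let g : ResidueField A →ₗ[A] E :=
          (maximalIdeal A).liftQ (LinearMap.toSpanSingleton A E y) (fun a ha => by
            simpa using hy a ha)
        have hg : g 1 = y := one_smul A y
        have hg' : g ∈ Submodule.span A {f} := by
          rw [(IsSimpleModule.span_singleton_eq_top A hf)]
          trivial
        obtain ⟨b, hb⟩ := Submodule.mem_span_singleton.mp hg'
        refine ⟨b, ?_⟩
        rw [← hg, ← hb]
        rfl)
    exact ⟨g, hg⟩

end Local

section Quotient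

variable {A : Type u} [CommRing A] [IsLocalRing A] [IsNoetherianRing A] {E : Type u}
  [AddCommGroup E] [Module A E] {f : ResidueField A →ₗ[A] E}

omit [IsLocalRing A] [IsNoetherianRing A] in
/-- `E[a]` is injective over `A/a`. -/
theorem injective_torsionBy (a : Ideal A) (hE : Module.Injective A E) :
    Module.Injective (A ⧸ a) (LocCoh.torsionBy a E) where
  out X Y _ _ _ _ i hi g := by
    letI : Module A X := Module.compHom X (Ideal.Quotient.mk a)
    letI : Module A Y := Module.compHom Y (Ideal.Quotient.mk a)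
    have hX : ∀ (r : A) (x : X), r • x = (Ideal.Quotient.mk a r) • x := fun _ _ => rfl
    have hY : ∀ (r : A) (x : Y), r • x = (Ideal.Quotient.mk a r) • x := fun _ _ => rfl
    let i' : X →ₗ[A] Y :=
      { toFun := i
        map_add' := map_add i
        map_smul' := fun r x => by rw [hX, map_smul]; rfl }
    let g' : X →ₗ[A] E :=
      { toFun := fun x => (g x : E)
        map_add' := fun x y => by rw [map_add]; rfl
        map_smul' := fun r x => by rw [hX, map_smul]; rfl }
    obtain ⟨h, hh⟩ := hE.out i' hi g'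
    have hmem : ∀ y : Y, h y ∈ LocCoh.torsionBy a E := by
      intro y
      rw [Submodule.mem_torsionBySet_iff]
      rintro ⟨r, hr⟩
      change r • h y = 0
      rw [← map_smul, hY, Ideal.Quotient.eq_zero_iff_mem.mpr hr, zero_smul, map_zero]
    refine ⟨{ toFun := fun y => ⟨h y, hmem y⟩, map_add' := fun x y => ?_,
              map_smul' := fun r y => ?_ }, fun x => ?_⟩
    · apply Subtype.ext; exact map_add h x y
    · obtain ⟨s, rfl⟩ := Ideal.Quotient.mk_surjective r
      apply Subtype.ext
      exact map_smul h s y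
    · apply Subtype.ext
      exact hh x

/-- S5157 -/
theorem exists_hull_torsionBy (a : Ideal A) [IsLocalRing (A ⧸ a)] (hf : IsInjectiveHull f) :
    ∃ g : ResidueField (A ⧸ a) →ₗ[A ⧸ a] (LocCoh.torsionBy a E), IsInjectiveHull g := by
  have hne : a ≠ ⊤ := by
    intro h
    subst h
    exact not_subsingleton (A ⧸ (⊤ : Ideal A)) (Ideal.Quotient.subsingleton_iff.mpr rfl)
  have ha : a ≤ maximalIdeal A := le_maximalIdeal hne
  have hmax : ∀ r : A, r ∈ maximalIdeal A ↔ Ideal.Quotient.mk a r ∈ maximalIdeal (A ⧸ a) := by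
    intro r
    have h1 : (maximalIdeal (A ⧸ a)).comap (Ideal.Quotient.mk a) = maximalIdeal A := by
      have : ((maximalIdeal (A ⧸ a)).comap (Ideal.Quotient.mk a)).IsMaximal :=
        Ideal.comap_isMaximal_of_surjective _ Ideal.Quotient.mk_surjective
      exact eq_maximalIdeal this
    rw [← h1, Ideal.mem_comap]
  have hx : f 1 ∈ LocCoh.torsionBy a E := by
    rw [Submodule.mem_torsionBySet_iff]
    rintro ⟨r, hr⟩
    exact smul_apply_one (ha hr)
  have hsm : ∀ (r : A) (y : LocCoh.torsionBy a E),
      ((Ideal.Quotient.mk a r • y : LocCoh.torsionBy a E) : E) = r • (y : E) := fun r y => rfl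
  have htor : LocCoh.IsPowerTorsion (maximalIdeal (A ⧸ a)) (LocCoh.torsionBy a E) := by
    intro y
    obtain ⟨n, hn⟩ := Groth.Agent.Localalg.Matlis.isPowerTorsion_hull hf (y : E)
    refine ⟨n, fun b hb => ?_⟩
    have h1 : maximalIdeal (A ⧸ a) = (maximalIdeal A).map (Ideal.Quotient.mk a) := by
      have h1 : (maximalIdeal (A ⧸ a)).comap (Ideal.Quotient.mk a) = maximalIdeal A := by
        ext r; rw [Ideal.mem_comap, hmax]
      rw [← h1, Ideal.map_comap_of_surjective _ Ideal.Quotient.mk_surjective]
    rw [h1, ← Ideal.map_pow] at hb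
    obtain ⟨c, hc, rfl⟩ := (Ideal.mem_map_iff_of_surjective _ Ideal.Quotient.mk_surjective).mp hb
    apply Subtype.ext
    rw [hsm, hn c hc]
    rfl
  obtain ⟨g, hg, -⟩ := exists_hull_of_socle (maximalIdeal (A ⧸ a))
    (injective_torsionBy a hf.isInjective) htor ⟨f 1, hx⟩
    (fun h => apply_one_ne_zero hf.toIsEssentialInj (congrArg Subtype.val h))
    (by
      intro b hb
      obtain ⟨c, rfl⟩ := Ideal.Quotient.mk_surjective b
      apply Subtype.ext
      rw [hsm]
      exact smul_apply_one ((hmax c).mpr hb))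
    (by
      intro y hy
      obtain ⟨b, hb⟩ := exists_smul_of_socle (f := f) hf.toIsEssentialInj (y := (y : E))
        (fun r hr => by
          have := congrArg Subtype.val (hy _ ((hmax r).mp hr))
          rwa [hsm] at this)
      refine ⟨Ideal.Quotient.mk a b, ?_⟩
      apply Subtype.ext
      rw [hsm, hb])
  exact ⟨g, hg⟩

end Quotient

end K172.Matlis
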