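import Groth.Agent.Localalg.Matlis2
import Mathlib.Algebra.Module.Torsion.Basic
import Mathlib.RingTheory.Ideal.Over
import Mathlib.RingTheory.Noetherian.Basic

/-!
# Power torsion parts at finitely many maximal ideals
-/

set_option autoImplicit false
universe u v w

namespace K172.PTor

variable {B : Type u} [CommRing B] (M : Type v) [AddCommGroup M] [Module B M]

/-- The `n`-power torsion submodule. -/
abbrev T (n : Ideal B) : Submodule B M := ⨆ k : ℕ, Submodule.torsionBySet B M ((n ^ k : Ideal B) : Set B)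

variable {M}

theorem mem_T (n : Ideal B) (x : M) : x ∈ T M n ↔ ∃ k : ℕ, ∀ a ∈ n ^ k, a • x = 0 :=
  Groth.Agent.Localalg.Matlis.mem_iSup_torsionBySet_iff n x

theorem pairwise_pow (k : ℕ) (S : Finset (MaximalSpectrum B)) :
    (S : Set (MaximalSpectrum B)).Pairwise
      fun i j => i.asIdeal ^ k ⊔ j.asIdeal ^ k = ⊤ := by
  intro i _ j _ hij
  rw [← Ideal.isCoprime_iff_sup_eq]
  apply IsCoprime.pow
  rw [Ideal.isCoprime_iff_sup_eq]
  exact i.isMaximal.coprime_of_ne j.isMaximal (fun h => hij (MaximalSpectrum.ext h))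

variable (B) in
theorem torsion_mono (n : Ideal B) {k l : ℕ} (h : k ≤ l) :
    Submodule.torsionBySet B M ((n ^ k : Ideal B) : Set B) ≤
      Submodule.torsionBySet B M ((n ^ l : Ideal B) : Set B) :=
  Submodule.torsionBySet_le_torsionBySet_of_subset (Ideal.pow_le_pow_right h)

theorem iSupIndep_T [Finite (MaximalSpectrum B)] :
    iSupIndep (fun n : MaximalSpectrum B => T M n.asIdeal) := by
  classical
  have := Fintype.ofFinite (MaximalSpectrum B)
  have hk : ∀ k : ℕ, iSupIndep (fun n : MaximalSpectrum B =>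
      Submodule.torsionBySet B M ((n.asIdeal ^ k : Ideal B) : Set B)) := by
    intro k
    rw [iSupIndep_iff_supIndep_univ]
    exact Submodule.supIndep_torsionBySet_ideal (pairwise_pow k Finset.univ)
  intro n
  rw [Submodule.disjoint_def]
  intro x hx hx'
  obtain ⟨k, hk1⟩ := (mem_T n.asIdeal x).mp hx
  have hx1 : x ∈ Submodule.torsionBySet B M ((n.asIdeal ^ k : Ideal B) : Set B) :=
    (Submodule.mem_torsionBySet_iff _ _).mpr fun a => hk1 a a.2
  have heq : (⨆ j, ⨆ (_ : j ≠ n), T M j.asIdeal) =
      ⨆ l : ℕ, ⨆ j, ⨆ (_ : j ≠ n),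
        Submodule.torsionBySet B M ((j.asIdeal ^ l : Ideal B) : Set B) := by
    apply le_antisymm
    · refine iSup_le fun j => iSup_le fun hj => iSup_le fun l => ?_
      exact le_iSup_of_le l (le_iSup_of_le j (le_iSup_of_le hj le_rfl))
    · refine iSup_le fun l => iSup_le fun j => iSup_le fun hj => ?_
      exact le_iSup_of_le j (le_iSup_of_le hj (le_iSup_of_le l le_rfl))
  rw [heq, Submodule.mem_iSup_of_directed] at hx'
  · obtain ⟨l, hl⟩ := hx'
    have h1 := Submodule.disjoint_def.mp (hk (max k l) n) x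
      (torsion_mono B _ (le_max_left k l) hx1)
    apply h1
    refine (iSup_mono fun j => iSup_mono fun hj => ?_ :
      (⨆ j, ⨆ (_ : j ≠ n), Submodule.torsionBySet B M ((j.asIdeal ^ l : Ideal B) : Set B)) ≤ _) hl
    exact torsion_mono B _ (le_max_right k l)
  · intro a b
    refine ⟨max a b, ?_, ?_⟩
    · exact iSup_mono fun j => iSup_mono fun hj => torsion_mono B _ (le_max_left a b)
    · exact iSup_mono fun j => iSup_mono fun hj => torsion_mono B _ (le_max_right a b)

/-- If every element of `M` is killed by an ideal whose radical contains the intersection of all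
maximal ideals (finitely many), then `M` is the sum of its power torsion parts. -/
theorem iSup_T_eq_top [IsNoetherianRing B] [Finite (MaximalSpectrum B)]
    (h : ∀ x : M, ∃ I : Ideal B, (⨅ n : MaximalSpectrum B, n.asIdeal) ≤ I.radical ∧
      ∀ a ∈ I, a • x = 0) :
    (⨆ n : MaximalSpectrum B, T M n.asIdeal) = ⊤ := by
  classical
  have := Fintype.ofFinite (MaximalSpectrum B)
  rw [eq_top_iff]
  rintro x -
  obtain ⟨I, hI, hx⟩ := h x
  obtain ⟨k, hk⟩ := Ideal.exists_pow_le_of_le_radical_of_fg hI
    ((isNoetherianRing_iff_ideal_fg B).mp inferInstance _)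
  have h1 : (⨅ n ∈ (Finset.univ : Finset (MaximalSpectrum B)), n.asIdeal ^ k) ≤ I := by
    refine le_trans ?_ hk
    rw [← Ideal.prod_eq_iInf_of_pairwise_isCoprime, Finset.prod_pow]
    · apply Ideal.pow_right_mono
      rw [Ideal.prod_eq_iInf_of_pairwise_isCoprime]
      · simp
      · intro i _ j _ hij
        rw [Function.onFun, Ideal.isCoprime_iff_sup_eq]
        exact i.isMaximal.coprime_of_ne j.isMaximal (fun h => hij (MaximalSpectrum.ext h))
    · intro i hi j hj hij
      rw [Function.onFun, Ideal.isCoprime_iff_sup_eq]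
      exact pairwise_pow k Finset.univ hi hj hij
  have h2 : x ∈ Submodule.torsionBySet B M
      ((⨅ n ∈ (Finset.univ : Finset (MaximalSpectrum B)), n.asIdeal ^ k : Ideal B) : Set B) :=
    (Submodule.mem_torsionBySet_iff _ _).mpr fun a => hx a (h1 a.2)
  rw [← Submodule.iSup_torsionBySet_ideal_eq_torsionBySet_iInf (pairwise_pow k Finset.univ)] at h2
  refine (iSup_le fun n => iSup_le fun _ => ?_ :
    (⨆ n ∈ (Finset.univ : Finset (MaximalSpectrum B)),
      Submodule.torsionBySet B M ((n.asIdeal ^ k : Ideal B) : Set B)) ≤ _) h2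
  exact le_iSup_of_le n (le_iSup_of_le k le_rfl)

end K172.PTor
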