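import Groth.Agent.Matlis.K172.Basic
import Groth.Agent.Matlis.K172.PTor
import Mathlib.Algebra.Category.ModuleCat.ChangeOfRings
import Mathlib.Algebra.Category.ModuleCat.Injective
import Mathlib.RingTheory.QuasiFinite.Basic
import Mathlib.RingTheory.SimpleModule.InjectiveProjective

/-!
# Coextension of scalars of an injective hull along a finite algebra
-/

set_option autoImplicit false
universe u v w

namespace K172.Coext

open _root_.InjHull IsLocalRing CategoryTheory

section General

variable {A B : Type u} [CommRing A] [CommRing B] [Algebra A B] {E : Type u} [AddCommGroup E]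
  [Module A E]

variable (A B E) in
/-- `Hom_A(B,E)` as a `B`-module. -/
abbrev Co : Type u := (ModuleCat.coextendScalars (algebraMap A B)).obj (ModuleCat.of A E)

/-- The underlying linear map. -/
noncomputable def toLin (h : Co A B E) : B →ₗ[A] E where
  toFun b := h b
  map_add' a b := map_add (ModuleCat.CoextendScalars.equiv (algebraMap A B) (ModuleCat.of A E) h) a b
  map_smul' p a := by
    rw [Algebra.smul_def]
    exact LinearMap.map_smul
      (ModuleCat.CoextendScalars.equiv (algebraMap A B) (ModuleCat.of A E) h) p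
      (show ((ModuleCat.restrictScalars (algebraMap A B)).obj (ModuleCat.of B B)) from a)

/-- The inverse of `toLin`. -/
noncomputable def ofLin (h : B →ₗ[A] E) : Co A B E :=
  (ModuleCat.CoextendScalars.equiv (algebraMap A B) (ModuleCat.of A E)).symm
    { toFun := fun a => h a
      map_add' := fun a b => map_add h a b
      map_smul' := fun p (a : B) => by
        change h ((algebraMap A B p) * a) = p • h a
        rw [← Algebra.smul_def, LinearMap.map_smul] }

theorem toLin_ofLin (g : B →ₗ[A] E) : toLin (ofLin g) = g := rfl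

theorem ofLin_toLin (g : Co A B E) : ofLin (toLin g) = g := rfl

theorem toLin_smul (b : B) (g : Co A B E) (c : B) : toLin (b • g) c = toLin g (c * b) := rfl

theorem toLin_add (g h : Co A B E) : toLin (g + h) = toLin g + toLin h := rfl

theorem toLin_zero : toLin (0 : Co A B E) = 0 := rfl

theorem toLin_injective : Function.Injective (toLin : Co A B E → (B →ₗ[A] E)) := fun g h hgh => by
  rw [← ofLin_toLin g, hgh, ofLin_toLin]

theorem injective_co (hE : Module.Injective A E) : Module.Injective B (Co A B E) := by
  have h1 : Injective (ModuleCat.of A E) := (Module.injective_iff_injective_object A E).mp hE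
  exact (Module.injective_iff_injective_object B _).mpr
    (Injective.injective_of_adjoint (ModuleCat.restrictCoextendScalarsAdj.{u, u, u}
      (algebraMap A B)) (ModuleCat.of A E))

end General

section Local

variable {A B : Type u} [CommRing A] [IsLocalRing A] [IsNoetherianRing A] [CommRing B]
  [Algebra A B] [Module.Finite A B] {E : Type u} [AddCommGroup E]
  [Module A E] {f : ResidueField A →ₗ[A] E}

omit [IsNoetherianRing A] in
theorem comap_eq (n : Ideal B) [n.IsMaximal] :
    n.comap (algebraMap A B) = maximalIdeal A := by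
  have : Algebra.IsIntegral A B := Algebra.IsIntegral.of_finite A B
  have := Ideal.isMaximal_comap_of_isIntegral_of_isMaximal (R := A) n
  exact eq_maximalIdeal this

/-- Every element of `Hom_A(B,E)` is killed by a power of the maximal ideal of `A`. -/
theorem exists_pow_smul (hf : IsInjectiveHull f) (g : Co A B E) :
    ∃ k : ℕ, ∀ a ∈ (maximalIdeal A) ^ k, (algebraMap A B a) • g = 0 := by
  have htor := Groth.Agent.Localalg.Matlis.isPowerTorsion_hull hf
  have hfg : (LinearMap.range (toLin g)).FG := by
    rw [LinearMap.range_eq_map]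
    exact Submodule.FG.map _ (Module.finite_def.mp inferInstance)
  obtain ⟨s, hs⟩ := hfg
  choose n hn using fun x : E => htor x
  refine ⟨s.sup n, fun a ha => ?_⟩
  apply toLin_injective
  ext b
  rw [toLin_smul, mul_comm, ← Algebra.smul_def, map_smul, toLin_zero, LinearMap.zero_apply]
  have h1 : toLin g b ∈ Submodule.span A (s : Set E) := by rw [hs]; exact ⟨b, rfl⟩
  generalize toLin g b = z at h1 ⊢
  induction h1 using Submodule.span_induction with
  | mem x hx => exact hn x a (Ideal.pow_le_pow_right (Finset.le_sup hx) ha)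
  | zero => rw [smul_zero]
  | add x y _ _ hx hy => rw [smul_add, hx, hy, add_zero]
  | smul r x _ hx => rw [smul_comm, hx, smul_zero]

omit [Module.Finite A B] in
/-- The socle of `Hom_A(B,E)` at a maximal ideal `n` of `B` (lying over the maximal ideal of `A`, with
finite residue extension) is one-dimensional. -/
theorem exists_socle (hf : IsInjectiveHull f) (n : Ideal B) [hn : n.IsMaximal]
    [Module.Finite A (B ⧸ n)] (hcomap : n.comap (algebraMap A B) = maximalIdeal A) :
    ∃ x : Co A B E, x ≠ 0 ∧ (∀ b ∈ n, b • x = 0) ∧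
      ∀ y : Co A B E, (∀ b ∈ n, b • y = 0) → ∃ b : B, y = b • x := by
  have hK : IsFiniteLength A (B ⧸ n) := by
    refine Groth.Agent.Localalg.Matlis.isFiniteLength_of_pow_smul 1 ?_
    intro a ha x
    obtain ⟨b, rfl⟩ := Ideal.Quotient.mk_surjective x
    rw [pow_one, ← hcomap, Ideal.mem_comap] at ha
    rw [Algebra.smul_def]
    change Ideal.Quotient.mk n (algebraMap A B a) * _ = 0
    rw [Ideal.Quotient.eq_zero_iff_mem.mpr ha, zero_mul]
  have hnt : Nontrivial (B ⧸ n) := Ideal.Quotient.nontrivial_iff.mpr hn.ne_top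
  obtain ⟨ψ, hψ⟩ := Groth.Agent.Localalg.Matlis.exists_apply_ne_zero hf
    (one_ne_zero : (1 : B ⧸ n) ≠ 0)
  letI : Field (B ⧸ n) := Ideal.Quotient.field n
  -- multiplication
  let μ : (B ⧸ n) →ₗ[A] ((B ⧸ n) →ₗ[A] E) :=
    { toFun := fun c => ψ ∘ₗ (LinearMap.mulLeft A c)
      map_add' := fun c d => LinearMap.ext fun z => by
        change ψ ((c + d) * z) = ψ (c * z) + ψ (d * z)
        rw [add_mul, map_add]
      map_smul' := fun r c => LinearMap.ext fun z => by
        change ψ ((r • c) * z) = r • ψ (c * z)
        rw [smul_mul_assoc, map_smul] }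
  have hμ : Function.Injective μ := by
    rw [injective_iff_map_eq_zero]
    intro c hc
    by_contra hc0
    apply hψ
    have := LinearMap.congr_fun hc c⁻¹
    change ψ (c * c⁻¹) = 0 at this
    rwa [mul_inv_cancel₀ hc0] at this
  have hμs : Function.Surjective μ := by
    have h1 := Groth.Agent.Localalg.Matlis.length_dual hf (B ⧸ n) hK
    have h3 := Module.length_eq_add_of_exact μ (LinearMap.range μ).mkQ hμ
      (Submodule.mkQ_surjective _) (LinearMap.exact_map_mkQ_range _)
    rw [h1] at h3
    have h4 : Module.length A (B ⧸ n) ≠ ⊤ := Module.length_ne_top_iff.mpr hK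
    have h5 : Module.length A (((B ⧸ n) →ₗ[A] E) ⧸ (LinearMap.range μ)) = 0 := by
      have h6 : Module.length A (B ⧸ n) + 0 = Module.length A (B ⧸ n) +
          Module.length A (((B ⧸ n) →ₗ[A] E) ⧸ (LinearMap.range μ)) := by
        rw [add_zero]; exact h3
      exact (WithTop.add_left_cancel h4 h6).symm
    rw [Module.length_eq_zero_iff, Submodule.Quotient.subsingleton_iff] at h5
    exact LinearMap.range_eq_top.mp h5
  let π : B →ₗ[A] (B ⧸ n) := (Ideal.Quotient.mkₐ A n).toLinearMap
  have hπ : ∀ b : B, π b = Ideal.Quotient.mk n b := fun _ => rfl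
  refine ⟨ofLin (ψ ∘ₗ π), ?_, ?_, ?_⟩
  · intro h
    apply hψ
    have := congrArg (fun g => toLin g (1 : B)) h
    simp only [toLin_ofLin, toLin_zero, LinearMap.zero_apply, LinearMap.comp_apply] at this
    rwa [hπ, map_one] at this
  · intro b hb
    apply toLin_injective
    ext c
    rw [toLin_smul, toLin_ofLin, toLin_zero, LinearMap.comp_apply, hπ, LinearMap.zero_apply,
      Ideal.Quotient.eq_zero_iff_mem.mpr (n.mul_mem_left c hb), map_zero]
  · intro y hy
    -- y factors through B/n
    have hker : ∀ b ∈ n, toLin y b = 0 := by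
      intro b hb
      have := congrArg (fun g => toLin g (1 : B)) (hy b hb)
      simpa [toLin_smul, toLin_zero] using this
    let y' : (B ⧸ n) →ₗ[A] E :=
      { toFun := fun z => (QuotientAddGroup.lift n.toAddSubgroup (toLin y).toAddMonoidHom
          (fun b hb => hker b hb)) z
        map_add' := fun z w => map_add _ z w
        map_smul' := fun r z => by
          obtain ⟨b, rfl⟩ := Ideal.Quotient.mk_surjective z
          exact map_smul (toLin y) r b }
    have hy' : ∀ b : B, y' (Ideal.Quotient.mk n b) = toLin y b := fun _ => rfl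
    obtain ⟨c, hc⟩ := hμs y'
    obtain ⟨b, rfl⟩ := Ideal.Quotient.mk_surjective c
    refine ⟨b, ?_⟩
    apply toLin_injective
    ext d
    rw [toLin_smul, toLin_ofLin, LinearMap.comp_apply, hπ, ← hy', ← hc]
    change ψ (Ideal.Quotient.mk n b * Ideal.Quotient.mk n d) = _
    rw [← map_mul, mul_comm]

omit [IsNoetherianRing A] [IsLocalRing A] [Module.Finite A B] in
theorem finite_maximalSpectrum (A B : Type u) [CommRing A] [IsLocalRing A] [CommRing B]
    [Algebra A B] [Module.Finite A B] : Finite (MaximalSpectrum B) := by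
  have h := Algebra.QuasiFinite.finite_primesOver (S := B) (IsLocalRing.maximalIdeal A)
  have : Finite ((IsLocalRing.maximalIdeal A).primesOver B) := h
  have hover : ∀ m : MaximalSpectrum B, m.asIdeal.LiesOver (IsLocalRing.maximalIdeal A) :=
    fun m => by
      have := m.isMaximal
      exact ⟨(comap_eq (A := A) m.asIdeal).symm⟩
  let f : MaximalSpectrum B → (IsLocalRing.maximalIdeal A).primesOver B :=
    fun m => ⟨m.asIdeal, m.isMaximal.isPrime, hover m⟩
  refine Finite.of_injective f fun m m' hm => MaximalSpectrum.ext ?_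
  exact congrArg (fun x => x.1) hm

omit [IsNoetherianRing A] in
theorem iInf_le_radical (k : ℕ) : (⨅ n : MaximalSpectrum B, n.asIdeal) ≤
    (((maximalIdeal A) ^ k).map (algebraMap A B)).radical := by
  rw [Ideal.radical_eq_sInf]
  refine le_sInf fun p hp => ?_
  have : p.IsPrime := hp.2
  have hint : Algebra.IsIntegral A B := Algebra.IsIntegral.of_finite A B
  have h1 : maximalIdeal A ≤ p.comap (algebraMap A B) := by
    rw [← Ideal.map_le_iff_le_comap]
    have h2 := hp.1
    rw [Ideal.map_pow] at h2
    by_cases hk : k = 0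
    · subst hk
      rw [pow_zero, Ideal.one_eq_top] at h2
      exact absurd (top_le_iff.mp h2) this.ne_top
    · exact (Ideal.IsPrime.pow_le_iff hk).mp h2
  have h3 : p.comap (algebraMap A B) = maximalIdeal A :=
    ((maximalIdeal.isMaximal A).eq_of_le
      (Ideal.IsPrime.ne_top (Ideal.comap_isPrime _ _)) h1).symm
  have h4 : (p.comap (algebraMap A B)).IsMaximal := by rw [h3]; infer_instance
  have h5 : p.IsMaximal := Ideal.isMaximal_of_isIntegral_of_isMaximal_comap p h4
  exact iInf_le_of_le ⟨p, h5⟩ le_rfl

/-- S11184 -/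
theorem exists_decomp (hf : IsInjectiveHull f) :
    ∃ J : MaximalSpectrum B → Submodule B (Co A B E), iSupIndep J ∧ iSup J = ⊤ ∧
      ∀ n : MaximalSpectrum B, ∃ g : (B ⧸ n.asIdeal) →ₗ[B] J n, IsInjectiveHull g := by
  have : IsNoetherianRing B := IsNoetherianRing.of_finite A B
  have := finite_maximalSpectrum A B
  refine ⟨fun n => PTor.T (Co A B E) n.asIdeal, PTor.iSupIndep_T, PTor.iSup_T_eq_top ?_, ?_⟩
  · intro x
    obtain ⟨k, hk⟩ := exists_pow_smul hf x
    refine ⟨((maximalIdeal A) ^ k).map (algebraMap A B), iInf_le_radical k, fun a ha => ?_⟩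
    rw [Ideal.map] at ha
    induction ha using Submodule.span_induction with
    | mem b hb =>
      obtain ⟨c, hc, rfl⟩ := hb
      exact hk c hc
    | zero => rw [zero_smul]
    | add b c _ _ hb hc => rw [add_smul, hb, hc, add_zero]
    | smul r b _ hb => rw [smul_eq_mul, mul_smul, hb, smul_zero]
  · intro n
    have := n.isMaximal
    obtain ⟨x, hx0, hx, hsoc⟩ := exists_socle (B := B) hf n.asIdeal (comap_eq _)
    have hxT : x ∈ PTor.T (Co A B E) n.asIdeal :=
      (PTor.mem_T _ _).mpr ⟨1, by simpa using hx⟩
    obtain ⟨g, hg, -⟩ := Matlis.exists_hull_of_socle n.asIdeal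
      (J := ↥(PTor.T (Co A B E) n.asIdeal))
      (Groth.Agent.Localalg.InjDecomp.injective_powerTorsion _ (injective_co hf.isInjective) _)
      (fun y => by
        obtain ⟨k, hk⟩ := (PTor.mem_T _ _).mp y.2
        exact ⟨k, fun a ha => Subtype.ext (hk a ha)⟩)
      ⟨x, hxT⟩ (fun h => hx0 (congrArg Subtype.val h))
      (fun a ha => Subtype.ext (hx a ha))
      (fun y hy => by
        obtain ⟨b, hb⟩ := hsoc y (fun a ha => congrArg Subtype.val (hy a ha))
        exact ⟨b, Subtype.ext hb⟩)
    exact ⟨g, hg⟩

/-- S5156 -/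
theorem exists_hull_co [IsLocalRing B] (hf : IsInjectiveHull f) :
    ∃ g : ResidueField B →ₗ[B] Co A B E, IsInjectiveHull g := by
  have : IsNoetherianRing B := IsNoetherianRing.of_finite A B
  obtain ⟨x, hx0, hx, hsoc⟩ := exists_socle (B := B) hf (maximalIdeal B) (comap_eq _)
  obtain ⟨g, hg, -⟩ := Matlis.exists_hull_of_socle (maximalIdeal B) (J := Co A B E)
    (injective_co hf.isInjective) (fun y => by
      obtain ⟨k, hk⟩ := exists_pow_smul hf y
      have h1 : maximalIdeal B ≤ (((maximalIdeal A) ^ k).map (algebraMap A B)).radical := by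
        refine le_trans (le_iInf fun n => ?_) (iInf_le_radical (A := A) (B := B) k)
        have := n.isMaximal
        rw [eq_maximalIdeal this]
      obtain ⟨l, hl⟩ := Ideal.exists_pow_le_of_le_radical_of_fg h1
        ((isNoetherianRing_iff_ideal_fg B).mp inferInstance _)
      refine ⟨l, fun a ha => ?_⟩
      replace ha := hl ha
      rw [Ideal.map] at ha
      induction ha using Submodule.span_induction with
      | mem b hb =>
        obtain ⟨c, hc, rfl⟩ := hb
        exact hk c hc
      | zero => rw [zero_smul]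
      | add b c _ _ hb hc => rw [add_smul, hb, hc, add_zero]
      | smul r b _ hb => rw [smul_eq_mul, mul_smul, hb, smul_zero])
    x hx0 hx hsoc
  exact ⟨g, hg⟩

end Local

section Field

open scoped IsLocalRing

/-- A field is a hull of its residue field. -/
theorem isInjectiveHull_field (k : Type u) [Field k] :
    ∃ f : ResidueField k →ₗ[k] k, IsInjectiveHull f := by
  let e : k ≃ₗ[k] ResidueField k := LinearEquiv.ofBijective (Algebra.linearMap k (ResidueField k))
    ⟨(algebraMap k (ResidueField k)).injective, residue_surjective⟩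
  refine ⟨e.symm.toLinearMap, ⟨⟨e.symm.injective, fun N hN => ?_⟩,
    Module.injective_of_isSemisimpleRing k k⟩⟩
  rw [LinearMap.range_eq_top.mpr e.symm.surjective, inf_top_eq]
  exact hN

/-- S5175 -/
theorem exists_hull_topDual (k₀ : Type u) [Field k₀] (A : Type u) [CommRing A] [IsLocalRing A]
    [IsNoetherianRing A] [Algebra k₀ A] [Module.Finite k₀ (A ⧸ maximalIdeal A)] :
    ∃ f : ResidueField A →ₗ[A] ↥(⨆ n : ℕ, Submodule.torsionBySet A (Co k₀ A k₀)
      ((maximalIdeal A ^ n : Ideal A) : Set A)), IsInjectiveHull f := by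
  obtain ⟨f, hf⟩ := isInjectiveHull_field k₀
  obtain ⟨x, hx0, hx, hsoc⟩ := exists_socle (B := A) hf (maximalIdeal A) (by
    have h1 : ((maximalIdeal A).comap (algebraMap k₀ A)) = ⊥ := by
      have h2 := Ideal.eq_bot_or_top ((maximalIdeal A).comap (algebraMap k₀ A))
      exact h2.resolve_right (Ideal.IsPrime.ne_top (Ideal.comap_isPrime _ _))
    rw [h1]
    exact ((Ideal.eq_bot_or_top (maximalIdeal k₀)).resolve_right
      (Ideal.IsPrime.ne_top inferInstance)).symm)
  have hxT : x ∈ PTor.T (Co k₀ A k₀) (maximalIdeal A) :=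
    (PTor.mem_T _ _).mpr ⟨1, by simpa using hx⟩
  obtain ⟨g, hg, -⟩ := Matlis.exists_hull_of_socle (maximalIdeal A)
    (J := ↥(PTor.T (Co k₀ A k₀) (maximalIdeal A)))
    (Groth.Agent.Localalg.InjDecomp.injective_powerTorsion _ (injective_co hf.isInjective) _)
    (fun y => by
      obtain ⟨k, hk⟩ := (PTor.mem_T _ _).mp y.2
      exact ⟨k, fun a ha => Subtype.ext (hk a ha)⟩)
    ⟨x, hxT⟩ (fun h => hx0 (congrArg Subtype.val h))
    (fun a ha => Subtype.ext (hx a ha))
    (fun y hy => by
      obtain ⟨b, hb⟩ := hsoc y (fun a ha => congrArg Subtype.val (hy a ha))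
      exact ⟨b, Subtype.ext hb⟩)
  exact ⟨g, hg⟩

end Field

end K172.Coext
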